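import Groth.Agent.PuncP1.Basic
import Mathlib.GroupTheory.OrderOfElement
import Mathlib.Data.Fintype.Units

/-!
The automorphisms.
-/

set_option autoImplicit false

universe u v

namespace Groth.Agent.PuncP1

open LaurentPolynomial
open scoped LaurentPolynomial

attribute [local instance] MvPolynomial.gradedAlgebra

local notation "AQ" q:max => HomogeneousLocalization.Away (MvPolynomial.homogeneousSubmodule (Fin 2) _) q

namespace Split

variable {K : Type u} [Field K] {L : Type v} [Field L] [Algebra K L] (D : Split K L)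

local notation "C'" => (LaurentPolynomial.C : L →+* L[T;T⁻¹])

noncomputable def g00 : AQ D.q := gen D.q_hom 0 0
noncomputable def g01 : AQ D.q := gen D.q_hom 0 1
noncomputable def g11 : AQ D.q := gen D.q_hom 1 1

theorem ι_gen (i j : Fin 2) :
    D.ι (gen D.q_hom i j) * (κ D.a * T 1) = D.h (MvPolynomial.X i) * D.h (MvPolynomial.X j) := by
  rw [← map_mul, ← D.h_q, ← pow_one (D.h D.q)]
  exact D.ι_mk 1 _ _

/-- The transformed `T`. -/
noncomputable def U (ψ : (AQ D.q) →+* L[T;T⁻¹]) : L[T;T⁻¹] :=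
  κ D.a * (ψ D.g00 - (C' D.α + C' D.α) * ψ D.g01 + C' D.α * C' D.α * ψ D.g11)

/-- The transformed `T⁻¹`. -/
noncomputable def V (ψ : (AQ D.q) →+* L[T;T⁻¹]) : L[T;T⁻¹] :=
  κ D.a * (ψ D.g00 - (C' D.β + C' D.β) * ψ D.g01 + C' D.β * C' D.β * ψ D.g11)

theorem U_ι : D.U D.ι = T 1 := by
  apply (isUnit_T (1 : ℤ) (R := L)).mul_right_cancel
  apply (isUnit_κ D.ha (L := L)).mul_left_cancel
  have h00 := D.ι_gen 0 0
  have h01 := D.ι_gen 0 1
  have h11 := D.ι_gen 1 1
  have h2 := D.x_sub_alpha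
  simp only [h_X0, h_X1] at h00 h01 h11
  simp only [U, g00, g01, g11]
  linear_combination κ D.a * h00 - κ D.a * (C' D.α + C' D.α) * h01 +
    κ D.a * (C' D.α * C' D.α) * h11 + κ D.a * (D.xv - C' D.α * D.yv + T 1) * h2

theorem one_eq_ι : κ D.a * (D.ι D.g00 - κ D.s * D.ι D.g01 + κ D.n * D.ι D.g11) = 1 := by
  apply (isUnit_T (1 : ℤ) (R := L)).mul_right_cancel
  have h00 := D.ι_gen 0 0
  have h01 := D.ι_gen 0 1
  have h11 := D.ι_gen 1 1
  have h1 := D.x_sub_beta
  have h2 := D.x_sub_alpha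
  simp only [h_X0, h_X1] at h00 h01 h11
  simp only [g00, g01, g11, κ_s, κ_n]
  linear_combination h00 - (C' D.α + C' D.β) * h01 + (C' D.α * C' D.β) * h11 +
    (D.xv - C' D.α * D.yv) * h1 + h2

theorem one_eq_gen : D.a • D.g00 + (-(D.a * D.s)) • D.g01 + (D.a * D.n) • D.g11 = (1 : AQ D.q) := by
  apply D.ι_injective
  rw [map_add, map_add, map_one, ι_smul, ι_smul, ι_smul, ← D.one_eq_ι, map_neg, map_mul, map_mul]
  ring

theorem sq_eq_gen : D.g01 * D.g01 = D.g00 * D.g11 := by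
  apply HomogeneousLocalization.val_injective
  simp only [g00, g01, g11, gen, HomogeneousLocalization.val_mul,
    HomogeneousLocalization.Away.val_mk, Localization.mk_mul]
  congr 1
  ring

section hom

variable (ψ : (AQ D.q) →+* L[T;T⁻¹]) (hψ : ∀ (k : K) z, ψ (k • z) = κ k * ψ z)

include hψ in
theorem one_eq_hom : κ D.a * (ψ D.g00 - κ D.s * ψ D.g01 + κ D.n * ψ D.g11) = 1 := by
  rw [← map_one ψ, ← D.one_eq_gen, map_add, map_add, hψ, hψ, hψ, map_neg, map_mul, map_mul]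
  ring

include hψ in
theorem U_mul_V : D.U ψ * D.V ψ = 1 := by
  have hs := congrArg ψ D.sq_eq_gen
  rw [map_mul, map_mul] at hs
  have h1 := D.one_eq_hom ψ hψ
  rw [κ_s, κ_n] at h1
  simp only [U, V]
  linear_combination (κ D.a * (ψ D.g00 - (C' D.α + C' D.β) * ψ D.g01 + C' D.α * C' D.β * ψ D.g11) + 1) * h1
    - κ D.a * κ D.a * (C' D.α - C' D.β) ^ 2 * hs

/-- The unit `U`. -/
noncomputable def Uu : (L[T;T⁻¹])ˣ :=
  ⟨D.U ψ, D.V ψ, D.U_mul_V ψ hψ, (mul_comm _ _).trans (D.U_mul_V ψ hψ)⟩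

/-- The extension of `ψ` to `L[T;T⁻¹]`. -/
noncomputable def θ : L[T;T⁻¹] →+* L[T;T⁻¹] := LaurentPolynomial.eval₂ C' (D.Uu ψ hψ)

theorem θ_C (r : L) : D.θ ψ hψ (C' r) = C' r := LaurentPolynomial.eval₂_C _ _ r

theorem θ_T : D.θ ψ hψ (T 1) = D.U ψ := by
  simp [θ, Uu]

theorem θ_ι (z : AQ D.q) : D.θ ψ hψ (D.ι z) = ψ z := by
  have hκ : ∀ r : K, D.θ ψ hψ (κ r) = κ r := fun r => D.θ_C ψ hψ _
  let ψ' := (D.θ ψ hψ).comp D.ι
  have hψ' : ∀ (k : K) z, ψ' (k • z) = κ k * ψ' z := fun k z => by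
    simp [ψ', ι_smul, hκ]
  have e1 : D.U ψ' = D.U ψ := by
    have := congrArg (D.θ ψ hψ) D.U_ι
    simpa [U, ψ', hκ, θ_C, θ_T] using this
  have e2 : D.V ψ' = D.V ψ := by
    calc D.V ψ' = D.V ψ' * (D.U ψ * D.V ψ) := by rw [D.U_mul_V ψ hψ, mul_one]
      _ = (D.U ψ' * D.V ψ') * D.V ψ := by rw [e1]; ring
      _ = D.V ψ := by rw [D.U_mul_V ψ' hψ', one_mul]
  have e3 := (D.one_eq_hom ψ' hψ').trans (D.one_eq_hom ψ hψ).symm
  simp only [U, V, κ_s, κ_n] at e1 e2 e3
  have hu : IsUnit (κ D.a * (C' D.α - C' D.β)) := by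
    rw [← map_sub]
    exact (isUnit_κ D.ha).mul ((Ne.isUnit (sub_ne_zero.mpr D.hne)).map C')
  set d0 := ψ' D.g00 - ψ D.g00
  set d1 := ψ' D.g01 - ψ D.g01
  set d2 := ψ' D.g11 - ψ D.g11
  have a1 : -d1 + C' D.α * d2 = 0 := by
    refine hu.mul_left_cancel ?_
    simp only [d1, d2]
    linear_combination e1 - e3
  have a2 : -d1 + C' D.β * d2 = 0 := by
    refine hu.mul_left_cancel ?_
    simp only [d1, d2]
    linear_combination e3 - e2
  have hd2 : d2 = 0 := by
    refine ((Ne.isUnit (sub_ne_zero.mpr D.hne)).map C').mul_left_cancel ?_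
    rw [map_sub]
    linear_combination a1 - a2
  have hd1 : d1 = 0 := by linear_combination -a1 + C' D.α * hd2
  have hd0 : d0 = 0 := by
    refine (isUnit_κ D.ha (L := L)).mul_left_cancel ?_
    simp only [d0, d1, d2] at hd1 hd2 ⊢
    linear_combination e3 + κ D.a * (C' D.α + C' D.β) * hd1 - κ D.a * (C' D.α * C' D.β) * hd2
  exact hom_eq_of_gen D.q_hom κ ψ' ψ hψ' hψ (sub_eq_zero.mp hd0) (sub_eq_zero.mp hd1)
    (sub_eq_zero.mp hd2) z

end hom

/-- The semilinear involution. -/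
noncomputable def τ : L[T;T⁻¹] →+* L[T;T⁻¹] := LaurentPolynomial.eval₂ ((C').comp D.σ) Tu⁻¹

theorem τ_C (r : L) : D.τ (C' r) = C' (D.σ r) := LaurentPolynomial.eval₂_C _ _ r

theorem τ_κ (r : K) : D.τ (κ r) = κ r := by simp [κ, τ_C, D.hσK]

theorem τ_T_mul : D.τ (T 1) * T 1 = 1 := by
  have : D.τ (T 1) = ((Tu⁻¹ : (L[T;T⁻¹])ˣ) : L[T;T⁻¹]) := by simp [τ]
  rw [this, ← coe_Tu, Units.inv_mul]

theorem τ_ι (z : AQ D.q) : D.τ (D.ι z) = D.ι z := by
  have hy : D.τ D.yv * T 1 = D.yv := by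
    have hT : D.τ (T 1) * T 1 = 1 := by
      have : D.τ (T 1) = ((Tu⁻¹ : (L[T;T⁻¹])ˣ) : L[T;T⁻¹]) := by simp [τ]
      rw [this, ← coe_Tu, Units.inv_mul]
    have hneg : C' (D.α - D.β)⁻¹ = -C' (D.β - D.α)⁻¹ := by rw [← map_neg, ← inv_neg, neg_sub]
    simp only [yv, map_mul, map_sub, map_one, τ_C, map_inv₀, map_sub, D.hσα, D.hσβ]
    rw [hneg]
    linear_combination -C' (D.β - D.α)⁻¹ * hT
  have hx : D.τ D.xv * T 1 = D.xv := by
    have h2 := D.x_sub_alpha
    simp only [xv, map_add, map_mul, map_one, τ_C, D.hσβ] at *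
    linear_combination C' D.α * hy - h2
  refine hom_eq_of_gen D.q_hom κ (D.τ.comp D.ι) D.ι (fun k z => by simp [ι_smul, τ_κ])
    D.ι_smul ?_ ?_ ?_ z
  all_goals
    apply ((isUnit_κ D.ha (L := L)).mul (isUnit_T (1 : ℤ))).mul_right_cancel
    rw [RingHom.comp_apply, ι_gen]
  · have e := congrArg D.τ (D.ι_gen 0 0)
    simp only [map_mul, τ_κ, h_X0] at e ⊢
    have hT := D.τ_T_mul
    linear_combination (T 1 : L[T;T⁻¹]) * T 1 * e + (-(D.τ (D.ι (gen D.q_hom 0 0)) * κ D.a * T 1)) * hT +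
      (D.τ D.xv * T 1 + D.xv) * hx
  · have e := congrArg D.τ (D.ι_gen 0 1)
    simp only [map_mul, τ_κ, h_X0, h_X1] at e ⊢
    have hT := D.τ_T_mul
    linear_combination (T 1 : L[T;T⁻¹]) * T 1 * e + (-(D.τ (D.ι (gen D.q_hom 0 1)) * κ D.a * T 1)) * hT +
      (D.τ D.xv * T 1) * hy + D.yv * hx
  · have e := congrArg D.τ (D.ι_gen 1 1)
    simp only [map_mul, τ_κ, h_X1] at e ⊢
    have hT := D.τ_T_mul
    linear_combination (T 1 : L[T;T⁻¹]) * T 1 * e + (-(D.τ (D.ι (gen D.q_hom 1 1)) * κ D.a * T 1)) * hT +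
      (D.τ D.yv * T 1 + D.yv) * hy

/-- A finite group of `K`-linear automorphisms of the coordinate ring of the punctured line has
exponent two and order at most four. -/
theorem aut_exponent_two (hK : ∀ n : ℕ, 0 < n → (Polynomial.X ^ n - 1 : Polynomial K).Splits)
    (G : Subgroup ((AQ D.q) ≃+* (AQ D.q))) [Finite G]
    (hG : ∀ g ∈ G, ∀ (k : K) (z : AQ D.q), g (k • z) = k • g z) :
    (∀ g ∈ G, g ^ 2 = 1) ∧ Nat.card G ≤ 4 := by
  let P : G → (AQ D.q) →+* L[T;T⁻¹] := fun φ => D.ι.comp (φ : (AQ D.q) ≃+* (AQ D.q)).toRingHom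
  have hP : ∀ φ (k : K) z, P φ (k • z) = κ k * P φ z := fun φ k z => by
    show D.ι ((φ : (AQ D.q) ≃+* (AQ D.q)) (k • z)) = _
    rw [hG _ φ.2, ι_smul]
    rfl
  let W : G → (L[T;T⁻¹])ˣ := fun φ => D.Uu (P φ) (hP φ)
  choose c k hck using fun φ => exists_eq_mon (W φ)
  have hW1 : W 1 = mon 1 1 := by
    apply Units.ext
    show D.U (P 1) = _
    rw [coe_mon, Units.val_one, map_one, one_mul, ← D.U_ι]
    rfl
  have hone : c 1 = 1 ∧ k 1 = 1 := mon_inj ((hck 1).symm.trans hW1)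
  have hinj : Function.Injective W := by
    intro φ φ' h
    apply Subtype.ext
    apply RingEquiv.ext
    intro z
    apply D.ι_injective
    show P φ z = P φ' z
    rw [← D.θ_ι (P φ) (hP φ) z, ← D.θ_ι (P φ') (hP φ') z]
    simp only [θ]
    rw [show D.Uu (P φ) (hP φ) = D.Uu (P φ') (hP φ') from h]
  have hWC : ∀ φ φ', Units.map (D.θ (P φ) (hP φ)).toMonoidHom (W φ') = W (φ * φ') := by
    intro φ φ'
    apply Units.ext
    show D.θ (P φ) (hP φ) (D.U (P φ')) = D.U (P (φ * φ'))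
    have hc : ∀ z, D.θ (P φ) (hP φ) (P φ' z) = P (φ * φ') z := fun z => D.θ_ι (P φ) (hP φ) _
    simp only [U, map_mul, map_add, map_sub, θ_C, hc]
    rw [show D.θ (P φ) (hP φ) (κ D.a) = κ D.a from D.θ_C _ _ _]
  have hcomp : ∀ φ φ', c (φ * φ') = c φ' * c φ ^ k φ' ∧ k (φ * φ') = k φ * k φ' := by
    intro φ φ'
    apply mon_inj
    rw [← hck, ← hWC, hck φ']
    have h1 : Units.map (D.θ (P φ) (hP φ)).toMonoidHom
        (Units.map (C').toMonoidHom (c φ')) = mon (c φ') 0 := by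
      apply Units.ext
      simp [coe_mon, θ_C]
    have h2 : Units.map (D.θ (P φ) (hP φ)).toMonoidHom Tu = W φ := by
      apply Units.ext
      simp [θ_T, W, Uu]
    rw [mon, map_mul, map_zpow, h1, h2, hck φ, mon_zpow, mon_mul, zero_add]
  have hk : ∀ φ, k φ = 1 ∨ k φ = -1 := fun φ => by
    have := (hcomp φ φ⁻¹).2
    rw [mul_inv_cancel, hone.2] at this
    exact Int.eq_one_or_neg_one_of_mul_eq_one this.symm
  have hnorm : ∀ φ, (c φ : L) * D.σ (c φ) = 1 := by
    intro φ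
    have h1 : D.V (P φ) = D.τ (D.U (P φ)) := by
      simp only [U, V, map_mul, map_add, map_sub, τ_C, τ_κ, D.hσα, P, RingHom.comp_apply, τ_ι]
    have h2 := D.U_mul_V (P φ) (hP φ)
    have hU : D.U (P φ) = C' (c φ : L) * T (k φ) := by
      rw [← coe_mon, ← hck]
      rfl
    have hτT : D.τ (T (k φ)) = T (-k φ) := by
      rw [τ, LaurentPolynomial.eval₂_T, inv_zpow', coe_Tu_zpow]
    rw [h1, hU, map_mul, τ_C, hτT] at h2
    have : C' ((c φ : L) * D.σ (c φ)) = C' 1 := by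
      rw [map_one, ← h2, map_mul]
      have hT : (T (k φ) : L[T;T⁻¹]) * T (-k φ) = 1 := by rw [← T_add, add_neg_cancel, T_zero]
      linear_combination (-(C' (c φ : L) * C' (D.σ (c φ)))) * hT
    simpa using congrArg (LaurentPolynomial.eval₂ (RingHom.id L) 1) this
  have hsq1 : ∀ φ, k φ = 1 → c φ * c φ = 1 := by
    intro φ hφ
    have hpow : ∀ n : ℕ, c (φ ^ n) = c φ ^ n ∧ k (φ ^ n) = 1 := by
      intro n
      induction n with
      | zero => simp [hone]
      | succ n ih =>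
        rw [pow_succ]
        obtain ⟨h1, h2⟩ := hcomp (φ ^ n) φ
        rw [h1, h2, hφ, zpow_one, ih.1, ih.2]
        exact ⟨by rw [pow_succ, mul_comm], by simp⟩
    have hN := (hpow (Nat.card G)).1
    rw [pow_card_eq_one', hone.1] at hN
    obtain ⟨r, hr⟩ : (c φ : L) ∈ (algebraMap K L).range := by
      refine (hK _ (Nat.card_pos (α := G))).mem_range_of_isRoot
        (Polynomial.monic_X_pow_sub_C (1 : K) (Nat.card_pos (α := G)).ne').ne_zero ?_
      simp [← Units.val_pow_eq_pow_val, ← hN]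
    have := hnorm φ
    rw [← hr, D.hσK, hr] at this
    exact Units.ext this
  have hsq : ∀ φ : G, φ * φ = 1 := by
    intro φ
    apply hinj
    rw [hck, hW1]
    obtain ⟨h1, h2⟩ := hcomp φ φ
    rcases hk φ with h | h
    · rw [h1, h2, h, zpow_one, hsq1 φ h, mul_one]
    · rw [h1, h2, h, zpow_neg_one, mul_inv_cancel]; rfl
  refine ⟨fun g hg => ?_, ?_⟩
  · simpa [pow_two] using congrArg Subtype.val (hsq ⟨g, hg⟩)
  · let kh : G →* ℤ :=
      { toFun := k, map_one' := hone.2, map_mul' := fun φ φ' => (hcomp φ φ').2 }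
    let khu : G →* ℤˣ := kh.toHomUnits
    have hkhu : ∀ φ, khu φ = 1 ↔ k φ = 1 := fun φ => by
      rw [← Units.val_inj]; rfl
    have hker : Nat.card khu.ker ≤ 2 := by
      classical
      let f : khu.ker → Bool := fun φ => decide (c φ.1 = 1)
      have hf : Function.Injective f := by
        intro φ φ' h
        have hval : ∀ ψ : khu.ker, c ψ.1 = 1 ∨ c ψ.1 = -1 := fun ψ => by
          have := hsq1 ψ.1 ((hkhu _).mp ψ.2)
          rcases mul_self_eq_one_iff.mp (congrArg Units.val this) with h | h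
          · exact Or.inl (Units.ext h)
          · exact Or.inr (Units.ext h)
        have hc : c φ.1 = c φ'.1 := by
          simp only [f, decide_eq_decide] at h
          rcases hval φ with a | a
          · rw [a, h.mp a]
          · rcases hval φ' with b | b
            · rw [h.mpr b, b]
            · rw [a, b]
        apply Subtype.ext
        apply hinj
        rw [hck, hck, hc, (hkhu _).mp φ.2, (hkhu _).mp φ'.2]
      simpa using Nat.card_le_card_of_injective f hf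
    have hrange : Nat.card khu.range ≤ 2 := by
      refine le_trans (Nat.card_le_card_of_injective _ Subtype.val_injective) ?_
      simp
    rw [← Subgroup.card_mul_index khu.ker, Subgroup.index_ker]
    nlinarith

end Split

end Groth.Agent.PuncP1
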