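import Groth.Agent.PuncP1.Laurent
import Mathlib.RingTheory.GradedAlgebra.HomogeneousLocalization
import Mathlib.RingTheory.MvPolynomial.WeightedHomogeneous
import Mathlib.GroupTheory.Index
import Mathlib.Algebra.Polynomial.Splits
import Mathlib.RingTheory.Localization.FractionRing

/-!
Finite groups of automorphisms of the projective line minus a point of degree two.

Over the quadratic splitting field `L` the coordinate ring `A` embeds into `L[T;T⁻¹]`; an
automorphism extends to `T ↦ e T^{±1}` with `e σ(e) = 1`.
-/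

set_option autoImplicit false

universe u v

namespace Groth.Agent.PuncP1

open LaurentPolynomial
open scoped LaurentPolynomial

variable {K : Type u} [Field K]

attribute [local instance] MvPolynomial.gradedAlgebra

local notation "𝒮" => MvPolynomial.homogeneousSubmodule (Fin 2) K
local notation "AQ" q:max => HomogeneousLocalization.Away (MvPolynomial.homogeneousSubmodule (Fin 2) K) q

theorem degree_of_mem {σ R : Type*} [CommSemiring R] {p : MvPolynomial σ R} {k : ℕ}
    (hp : p.IsHomogeneous k) {m : σ →₀ ℕ} (hm : m ∈ p.support) : m.degree = k := by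
  rw [Finsupp.degree_eq_weight_one]
  exact hp (MvPolynomial.mem_support_iff.mp hm)

section gen

variable {q : MvPolynomial (Fin 2) K} (hq : q.IsHomogeneous 2)

/-- The generator `x_i x_j / q`. -/
noncomputable def gen (i j : Fin 2) : AQ q :=
  HomogeneousLocalization.Away.mk 𝒮 (d := 2) (f := q) hq 1 (MvPolynomial.X i * MvPolynomial.X j)
    (by simpa using (MvPolynomial.isHomogeneous_X K i).mul (MvPolynomial.isHomogeneous_X K j))

theorem gen_comm (i j : Fin 2) : gen hq i j = gen hq j i := by
  apply HomogeneousLocalization.val_injective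
  simp [gen, mul_comm]

theorem hom_eq_of_gen {S : Type*} [CommRing S] (κ : K →+* S) (f g : (AQ q) →+* S)
    (hf : ∀ (k : K) z, f (k • z) = κ k * f z) (hg : ∀ (k : K) z, g (k • z) = κ k * g z)
    (h00 : f (gen hq 0 0) = g (gen hq 0 0)) (h01 : f (gen hq 0 1) = g (gen hq 0 1))
    (h11 : f (gen hq 1 1) = g (gen hq 1 1)) (z : AQ q) : f z = g z := by
  classical
  have hgen : ∀ i j, f (gen hq i j) = g (gen hq i j) := by
    intro i j
    fin_cases i <;> fin_cases j
    · exact h00
    · exact h01
    · rw [gen_comm]; exact h01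
    · exact h11
  have key : ∀ (n : ℕ) (p : MvPolynomial (Fin 2) K) (hp : p ∈ 𝒮 (n • 2)),
      f (HomogeneousLocalization.Away.mk 𝒮 (d := 2) (f := q) hq n p hp) =
        g (HomogeneousLocalization.Away.mk 𝒮 (d := 2) (f := q) hq n p hp) := by
    intro n
    induction n with
    | zero =>
      intro p hp
      obtain ⟨c, rfl⟩ : ∃ c, p = MvPolynomial.C c := ⟨p.coeff 0, by
        have h0 : p.totalDegree = 0 := Nat.le_zero.mp
          (((MvPolynomial.mem_homogeneousSubmodule 0 p).mp (by simpa using hp)).totalDegree_le)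
        exact MvPolynomial.totalDegree_eq_zero_iff_eq_C.mp h0⟩
      have : HomogeneousLocalization.Away.mk 𝒮 (d := 2) (f := q) hq 0 (MvPolynomial.C c) hp =
          c • (1 : AQ q) := by
        apply HomogeneousLocalization.val_injective
        simp [HomogeneousLocalization.val_smul, Algebra.smul_def, Localization.mk_eq_mk',
          IsScalarTower.algebraMap_apply K (MvPolynomial (Fin 2) K) (Localization (Submonoid.powers q)),
          IsLocalization.mk'_eq_iff_eq_mul]
      rw [this, hf, hg, map_one, map_one]
    | succ n ih =>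
      intro p hp
      have hp' : p.IsHomogeneous ((n + 1) • 2) := hp
      let mk : (m : ℕ) → (p : MvPolynomial (Fin 2) K) → p ∈ 𝒮 (m • 2) → (AQ q) :=
        fun m p h => HomogeneousLocalization.Away.mk 𝒮 (d := 2) (f := q) hq m p h
      have hadd : ∀ (p p' : MvPolynomial (Fin 2) K) (h : p ∈ 𝒮 ((n+1) • 2)) (h' : p' ∈ 𝒮 ((n+1) • 2)),
          mk (n+1) (p + p') (add_mem h h') = mk (n+1) p h + mk (n+1) p' h' := by
        intro p p' h h'
        apply HomogeneousLocalization.val_injective
        simp [mk, Localization.add_mk_self]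
      let P : MvPolynomial (Fin 2) K → Prop := fun p => ∀ h : p ∈ 𝒮 ((n+1) • 2),
        f (mk (n+1) p h) = g (mk (n+1) p h)
      suffices P p from this hp
      rw [p.as_sum]
      have hmem : ∀ m ∈ p.support, MvPolynomial.monomial m (p.coeff m) ∈ 𝒮 ((n+1) • 2) := fun m hm =>
        MvPolynomial.isHomogeneous_monomial _ (degree_of_mem hp' hm)
      suffices h : ∀ s : Finset (Fin 2 →₀ ℕ), s ⊆ p.support →
          (∑ m ∈ s, MvPolynomial.monomial m (p.coeff m)) ∈ 𝒮 ((n+1) • 2) ∧
            P (∑ m ∈ s, MvPolynomial.monomial m (p.coeff m)) from (h _ le_rfl).2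
      intro s
      induction s using Finset.induction_on with
      | empty =>
        intro _
        refine ⟨by simp, fun h => ?_⟩
        have : mk (n+1) (∑ m ∈ (∅ : Finset (Fin 2 →₀ ℕ)), MvPolynomial.monomial m (p.coeff m)) h = 0 := by
          apply HomogeneousLocalization.val_injective
          simp [mk, Localization.mk_zero]
        rw [this, map_zero, map_zero]
      | insert m s hms ihs =>
        intro hsub
        rw [Finset.insert_subset_iff] at hsub
        obtain ⟨hs1, hs2⟩ := ihs hsub.2
        simp only [Finset.sum_insert hms]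
        refine ⟨add_mem (hmem m hsub.1) hs1, fun h => ?_⟩
        rw [hadd _ _ (hmem m hsub.1) hs1, map_add, map_add, hs2 hs1]
        congr 1
        have hdeg : m 0 + m 1 = (n + 1) * 2 := by
          have := degree_of_mem hp' hsub.1
          simpa [Finsupp.degree_eq_sum, Fin.sum_univ_two] using this
        obtain ⟨i, j, m', hm'⟩ : ∃ (i j : Fin 2) (m' : Fin 2 →₀ ℕ),
            m = m' + (Finsupp.single i 1 + Finsupp.single j 1) := by
          have main : ∀ e : Fin 2 →₀ ℕ, e ≤ m → m = (m - e) + e := fun e he =>
            (tsub_add_cancel_of_le he).symm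
          by_cases h0 : 2 ≤ m 0
          · exact ⟨0, 0, _, main _ (fun k => by fin_cases k <;> simp; omega)⟩
          by_cases h1 : 2 ≤ m 1
          · exact ⟨1, 1, _, main _ (fun k => by fin_cases k <;> simp; omega)⟩
          exact ⟨0, 1, _, main _ (fun k => by fin_cases k <;> simp <;> omega)⟩
        have hm'deg : MvPolynomial.monomial m' (p.coeff m) ∈ 𝒮 (n • 2) := by
          refine MvPolynomial.isHomogeneous_monomial _ ?_
          have := degree_of_mem hp' hsub.1
          rw [hm', map_add, map_add, Finsupp.degree_single, Finsupp.degree_single] at this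
          simp only [smul_eq_mul] at this ⊢
          omega
        have hmk : mk (n+1) (MvPolynomial.monomial m (p.coeff m)) (hmem m hsub.1) =
            mk n (MvPolynomial.monomial m' (p.coeff m)) hm'deg * gen hq i j := by
          apply HomogeneousLocalization.val_injective
          simp only [mk, gen, HomogeneousLocalization.val_mul, HomogeneousLocalization.Away.val_mk,
            Localization.mk_mul]
          congr 1
          · simp [MvPolynomial.X, MvPolynomial.monomial_mul, hm']
          · ext; simp [pow_succ]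
        rw [hmk, map_mul, map_mul, hgen, ih _ hm'deg]
  obtain ⟨n, p, hp, rfl⟩ := HomogeneousLocalization.Away.mk_surjective 𝒮 (d := 2) hq z
  exact key n p hp

end gen

/-- The data of the splitting. -/
structure Split (K : Type u) [Field K] (L : Type v) [Field L] [Algebra K L] where
  a : K
  s : K
  n : K
  ha : a ≠ 0
  α : L
  β : L
  hne : α ≠ β
  hs : α + β = algebraMap K L s
  hn : α * β = algebraMap K L n
  σ : L →+* L
  hσK : ∀ r : K, σ (algebraMap K L r) = algebraMap K L r
  hσα : σ α = β
  hσβ : σ β = α

namespace Split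

variable {L : Type v} [Field L] [Algebra K L] (D : Split K L)

/-- The quadratic form. -/
noncomputable def q : MvPolynomial (Fin 2) K :=
  MvPolynomial.C D.a * (MvPolynomial.X 0 * MvPolynomial.X 0 -
    MvPolynomial.C D.s * (MvPolynomial.X 0 * MvPolynomial.X 1) +
      MvPolynomial.C D.n * (MvPolynomial.X 1 * MvPolynomial.X 1))

/-- The scalars. -/
noncomputable def κ : K →+* L[T;T⁻¹] := (LaurentPolynomial.C).comp (algebraMap K L)

noncomputable def yv : L[T;T⁻¹] := LaurentPolynomial.C (D.β - D.α)⁻¹ * (T 1 - 1)

noncomputable def xv : L[T;T⁻¹] := 1 + LaurentPolynomial.C D.β * D.yv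

theorem x_sub_beta : D.xv - LaurentPolynomial.C D.β * D.yv = 1 := by simp [xv]

theorem x_sub_alpha : D.xv - LaurentPolynomial.C D.α * D.yv = T 1 := by
  have h : (LaurentPolynomial.C D.β - LaurentPolynomial.C D.α) *
      (LaurentPolynomial.C (D.β - D.α)⁻¹ : L[T;T⁻¹]) = 1 := by
    rw [← map_sub, ← map_mul, mul_inv_cancel₀ (sub_ne_zero.mpr D.hne.symm), map_one]
  simp only [xv, yv]
  linear_combination ((T 1 : L[T;T⁻¹]) - 1) * h

/-- Substitution. -/
noncomputable def h : MvPolynomial (Fin 2) K →+* L[T;T⁻¹] :=
  MvPolynomial.eval₂Hom (κ (K := K) (L := L)) ![D.xv, D.yv]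

@[simp] theorem h_X0 : D.h (MvPolynomial.X 0) = D.xv := by simp [h]
@[simp] theorem h_X1 : D.h (MvPolynomial.X 1) = D.yv := by simp [h]
@[simp] theorem h_C (r : K) : D.h (MvPolynomial.C r) = κ r := by simp [h]

theorem κ_s : (κ D.s : L[T;T⁻¹]) = LaurentPolynomial.C D.α + LaurentPolynomial.C D.β := by
  simp [κ, ← D.hs]

theorem κ_n : (κ D.n : L[T;T⁻¹]) = LaurentPolynomial.C D.α * LaurentPolynomial.C D.β := by
  simp [κ, ← D.hn]

theorem h_q : D.h D.q = κ D.a * T 1 := by
  simp only [q, map_mul, map_add, map_sub, h_C, h_X0, h_X1, κ_s, κ_n]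
  have h1 := D.x_sub_beta
  have h2 := D.x_sub_alpha
  linear_combination (κ D.a * (D.xv - LaurentPolynomial.C D.α * D.yv)) * h1 + κ D.a * h2

theorem isUnit_κ {r : K} (hr : r ≠ 0) : IsUnit (κ (L := L) r) := (Ne.isUnit hr).map _

theorem isUnit_hq : IsUnit (D.h D.q) := by
  rw [h_q]; exact (isUnit_κ D.ha).mul (isUnit_T 1)

theorem q_hom : D.q.IsHomogeneous 2 := by
  have hX : ∀ i j : Fin 2, (MvPolynomial.X i * MvPolynomial.X j : MvPolynomial (Fin 2) K).IsHomogeneous 2 :=
    fun i j => (MvPolynomial.isHomogeneous_X K i).mul (MvPolynomial.isHomogeneous_X K j)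
  exact (((hX 0 0).sub ((hX 0 1).C_mul _)).add ((hX 1 1).C_mul _)).C_mul _

/-- The embedding. -/
noncomputable def ι : (AQ D.q) →+* L[T;T⁻¹] :=
  (IsLocalization.Away.lift (S := Localization.Away D.q) D.q D.isUnit_hq).comp
    (algebraMap (AQ D.q) (Localization.Away D.q))

theorem ι_mk (m : ℕ) (p : MvPolynomial (Fin 2) K) (hp : p ∈ 𝒮 (m • 2)) :
    D.ι (HomogeneousLocalization.Away.mk 𝒮 (d := 2) (f := D.q) D.q_hom m p hp) * D.h D.q ^ m =
      D.h p := by
  simp only [ι, RingHom.comp_apply, HomogeneousLocalization.algebraMap_apply,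
    HomogeneousLocalization.Away.val_mk, Localization.mk_eq_mk']
  rw [← IsLocalization.Away.lift_eq (S := Localization.Away D.q) D.q D.isUnit_hq D.q, ← map_pow,
    ← map_mul, ← map_pow, IsLocalization.mk'_spec]
  exact IsLocalization.Away.lift_eq D.q D.isUnit_hq p

theorem ι_smul (k : K) (z : AQ D.q) : D.ι (k • z) = κ k * D.ι z := by
  simp only [ι, RingHom.comp_apply, HomogeneousLocalization.algebraMap_apply,
    HomogeneousLocalization.val_smul, Algebra.smul_def, map_mul]
  rw [IsScalarTower.algebraMap_apply K (MvPolynomial (Fin 2) K) (Localization.Away D.q),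
    IsLocalization.Away.lift_eq, MvPolynomial.algebraMap_eq, h_C]

theorem h_homogeneous_eq_zero {m : ℕ} {p : MvPolynomial (Fin 2) K} (hp : p.IsHomogeneous m)
    (hz : D.h p = 0) : p = 0 := by
  let H : MvPolynomial (Fin 2) K →+* Polynomial L[T;T⁻¹] :=
    MvPolynomial.eval₂Hom (Polynomial.C.comp κ)
      ![Polynomial.C D.xv * Polynomial.X, Polynomial.C D.yv * Polynomial.X]
  let F := FractionRing (MvPolynomial (Fin 2) L)
  let X0 : F := algebraMap (MvPolynomial (Fin 2) L) F (MvPolynomial.X 0)
  let X1 : F := algebraMap (MvPolynomial (Fin 2) L) F (MvPolynomial.X 1)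
  let cF : L →+* F := (algebraMap (MvPolynomial (Fin 2) L) F).comp MvPolynomial.C
  have hlin : ∀ c : L, X0 - cF c * X1 ≠ 0 := by
    intro c hc
    have : (MvPolynomial.X 0 - MvPolynomial.C c * MvPolynomial.X 1 : MvPolynomial (Fin 2) L) = 0 := by
      apply IsFractionRing.injective (MvPolynomial (Fin 2) L) F
      simpa [X0, X1, cF] using hc
    have := congrArg (MvPolynomial.eval ![1, 0]) this
    simp at this
  let t : Fˣ := Units.mk0 _ (div_ne_zero (hlin D.α) (hlin D.β))
  let G : Polynomial L[T;T⁻¹] →+* F :=
    Polynomial.eval₂RingHom (LaurentPolynomial.eval₂ cF t) (X0 - cF D.β * X1)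
  have hβα : cF D.β - cF D.α ≠ 0 := by
    rw [← map_sub]
    exact (map_ne_zero cF).mpr (sub_ne_zero.mpr D.hne.symm)
  have hT : (t : F) * (X0 - cF D.β * X1) = X0 - cF D.α * X1 := by
    simp only [t, Units.val_mk0]
    exact div_mul_cancel₀ _ (hlin D.β)
  have hy : G (Polynomial.C D.yv * Polynomial.X) = X1 := by
    simp only [G, Polynomial.coe_eval₂RingHom, Polynomial.eval₂_mul, Polynomial.eval₂_C,
      Polynomial.eval₂_X, yv, map_mul, map_sub, map_one, LaurentPolynomial.eval₂_C,
      LaurentPolynomial.eval₂_T, zpow_one, map_inv₀]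
    rw [mul_assoc, inv_mul_eq_iff_eq_mul₀ hβα]
    linear_combination hT
  have hx : G (Polynomial.C D.xv * Polynomial.X) = X0 := by
    have : Polynomial.C D.xv * Polynomial.X = Polynomial.X +
        Polynomial.C (LaurentPolynomial.C D.β) * (Polynomial.C D.yv * Polynomial.X) := by
      simp [xv, map_add, add_mul, mul_assoc]
    rw [this, map_add, map_mul, hy]
    simp [G]
  have hGH : G.comp H = (algebraMap (MvPolynomial (Fin 2) L) F).comp
      (MvPolynomial.map (algebraMap K L)) := by
    refine MvPolynomial.ringHom_ext (fun r => ?_) (fun i => ?_)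
    · simp [G, H, κ, cF]
    · fin_cases i
      · simpa [H, X0] using hx
      · simpa [H, X1] using hy
  have hH : H p = 0 := by
    have : H p = Polynomial.C (D.h p) * Polynomial.X ^ m := by
      conv_lhs => rw [p.as_sum]
      conv_rhs => rw [p.as_sum]
      simp only [map_sum, Finset.sum_mul]
      refine Finset.sum_congr rfl fun d hd => ?_
      have hd' : d 0 + d 1 = m := by
        simpa [Finsupp.degree_eq_sum, Fin.sum_univ_two] using degree_of_mem hp hd
      simp only [H, h, MvPolynomial.eval₂Hom_monomial, Finsupp.prod_fintype, pow_zero,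
        implies_true, Fin.prod_univ_two, Matrix.cons_val_zero, Matrix.cons_val_one,
        RingHom.comp_apply, map_mul, map_pow, mul_pow, ← hd', pow_add]
      ring
    rw [this, hz, map_zero, zero_mul]
  have := RingHom.congr_fun hGH p
  rw [RingHom.comp_apply, hH, map_zero] at this
  exact MvPolynomial.map_injective _ (algebraMap K L).injective
    (IsFractionRing.injective _ F (by simpa using this.symm))

theorem ι_injective : Function.Injective D.ι := by
  rw [injective_iff_map_eq_zero]
  intro z hz
  obtain ⟨m, p, hp, rfl⟩ := HomogeneousLocalization.Away.mk_surjective 𝒮 (d := 2) D.q_hom z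
  have := D.ι_mk m p hp
  rw [hz, zero_mul] at this
  apply HomogeneousLocalization.val_injective
  simp [D.h_homogeneous_eq_zero hp this.symm, Localization.mk_zero]

end Split

end Groth.Agent.PuncP1
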