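import Mathlib.Algebra.Polynomial.Laurent
import Mathlib.Algebra.Polynomial.RingDivision
import Mathlib.RingTheory.MvPolynomial.Homogeneous
import Mathlib.Tactic.LinearCombination

/-!
Units of a Laurent polynomial ring over a field.
-/

set_option autoImplicit false

namespace Groth.Agent.PuncP1

open LaurentPolynomial
open scoped LaurentPolynomial

variable {L : Type*} [Field L]

/-- The unit `T`. -/
noncomputable def Tu : (L[T;T⁻¹])ˣ := (isUnit_T 1).unit

@[simp] theorem coe_Tu : ((Tu : (L[T;T⁻¹])ˣ) : L[T;T⁻¹]) = T 1 := rfl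

theorem coe_Tu_zpow (k : ℤ) : (((Tu : (L[T;T⁻¹])ˣ) ^ k : (L[T;T⁻¹])ˣ) : L[T;T⁻¹]) = T k := by
  induction k using Int.induction_on with
  | zero => simp
  | succ i ih => rw [zpow_add, zpow_one, Units.val_mul, ih, coe_Tu, ← T_add]
  | pred i ih =>
    rw [zpow_sub, zpow_one, Units.val_mul, ih]
    apply (isUnit_T (1 : ℤ) (R := L)).mul_right_cancel
    rw [mul_assoc, ← coe_Tu, Units.inv_mul, mul_one, coe_Tu, ← T_add, sub_add_cancel]

/-- The unit `c Tᵏ`. -/
noncomputable def mon (c : Lˣ) (k : ℤ) : (L[T;T⁻¹])ˣ :=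
  Units.map (LaurentPolynomial.C : L →+* L[T;T⁻¹]).toMonoidHom c * Tu ^ k

theorem coe_mon (c : Lˣ) (k : ℤ) :
    (mon c k : L[T;T⁻¹]) = LaurentPolynomial.C (c : L) * T k := by
  rw [mon, Units.val_mul, coe_Tu_zpow]
  rfl

theorem mon_mul (c d : Lˣ) (k l : ℤ) : mon c k * mon d l = mon (c * d) (k + l) := by
  apply Units.ext
  rw [Units.val_mul, coe_mon, coe_mon, coe_mon, Units.val_mul, map_mul, T_add]
  ring

theorem mon_inj {c d : Lˣ} {k l : ℤ} (h : mon c k = mon d l) : c = d ∧ k = l := by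
  have h' := congrArg Units.val h
  rw [coe_mon, coe_mon, ← single_eq_C_mul_T, ← single_eq_C_mul_T] at h'
  have h1 := congrArg (fun p : L[T;T⁻¹] => p.coeff k) h'
  simp only [AddMonoidAlgebra.coeff_single, Finsupp.single_apply, if_true] at h1
  by_cases hkl : l = k
  · rw [if_pos hkl] at h1
    exact ⟨Units.ext h1, hkl.symm⟩
  · rw [if_neg hkl] at h1
    exact absurd h1 c.ne_zero

theorem mon_zpow (c : Lˣ) (k m : ℤ) : mon c k ^ m = mon (c ^ m) (k * m) := by
  rw [mon, mon, mul_zpow, ← map_zpow, ← zpow_mul]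

theorem exists_eq_mon (u : (L[T;T⁻¹])ˣ) : ∃ c k, u = mon c k := by
  obtain ⟨n, p, hp⟩ := exists_T_pow (u : L[T;T⁻¹])
  obtain ⟨m, r, hr⟩ := exists_T_pow ((u⁻¹ : (L[T;T⁻¹])ˣ) : L[T;T⁻¹])
  have hpr : p * r = Polynomial.X ^ (n + m) := by
    apply Polynomial.toLaurent_injective
    rw [map_mul, hp, hr, Polynomial.toLaurent_X_pow, Nat.cast_add, T_add]
    have := Units.mul_inv u
    linear_combination (T (n : ℤ) * T (m : ℤ) : L[T;T⁻¹]) * this
  obtain ⟨i, -, hi⟩ := (dvd_prime_pow Polynomial.prime_X _).mp ⟨r, hpr.symm⟩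
  obtain ⟨w, hw⟩ := hi.symm
  obtain ⟨c, hc, hcw⟩ := Polynomial.isUnit_iff.mp w.isUnit
  refine ⟨hc.unit, (i : ℤ) - n, Units.ext ?_⟩
  have hu : (u : L[T;T⁻¹]) * T (n : ℤ) = LaurentPolynomial.C c * T (i : ℤ) := by
    rw [← hp, ← hw, ← hcw, map_mul, Polynomial.toLaurent_X_pow, Polynomial.toLaurent_C, mul_comm]
  rw [coe_mon, IsUnit.unit_spec, T_sub, ← mul_assoc, ← hu, mul_assoc, ← T_add, add_neg_cancel,
    T_zero, mul_one]

end Groth.Agent.PuncP1
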